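import Groth.Prelude.Def_WittGrp
import Mathlib.RingTheory.WittVector.Identities
import Mathlib.FieldTheory.IsAlgClosed.Basic

/-!
# Subgroups of truncated Witt vectors whose components take one or almost all values
-/

set_option autoImplicit false
universe u

noncomputable section

namespace Groth.Agent.WittSub

open WittGrp

variable {p : ℕ} [hp : Fact p.Prime]

/-- the first `s` components vanish -/
def LowZero {R : Type u} [CommRing R] {n : ℕ} (s : ℕ) (v : TruncatedWittVector p n R) : Prop :=
  ∀ i : Fin n, (i : ℕ) < s → v.coeff i = 0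

theorem lowZero_shift {R : Type u} [CommRing R] {n m : ℕ} (h : n ≤ m) (x : TruncatedWittVector p n R) :
    LowZero (m - n) (shift p h x) := fun i hi => by
  rw [coeff_shift, dif_neg (by omega)]

theorem exists_shift {R : Type u} [CommRing R] {n : ℕ} {s : ℕ} (hs : s ≤ n) {v : TruncatedWittVector p n R}
    (hv : LowZero s v) : ∃ x : TruncatedWittVector p (n - s) R, shift p (Nat.sub_le n s) x = v := by
  refine ⟨TruncatedWittVector.mk p fun j => v.coeff ⟨j + s, by omega⟩, TruncatedWittVector.ext fun i => ?_⟩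
  rw [coeff_shift]
  split_ifs with hi
  · rw [TruncatedWittVector.coeff_mk]
    congr 1
    ext
    simp only
    omega
  · exact (hv i (by omega)).symm

theorem coeff_add_zero {R : Type u} [CommRing R] {n : ℕ} (x y : TruncatedWittVector p n R) (i : Fin n)
    (hi : (i : ℕ) = 0) : (x + y).coeff i = x.coeff i + y.coeff i := by
  obtain ⟨X, rfl⟩ := WittVector.truncate_surjective p n R x
  obtain ⟨Y, rfl⟩ := WittVector.truncate_surjective p n R y
  rw [← map_add, WittVector.coeff_truncate, WittVector.coeff_truncate, WittVector.coeff_truncate, hi,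
    WittVector.add_coeff_zero]

theorem lowZero_add {R : Type u} [CommRing R] {n s : ℕ} (hs : s ≤ n) {v w : TruncatedWittVector p n R}
    (hv : LowZero s v) (hw : LowZero s w) :
    LowZero s (v + w) ∧ ∀ i : Fin n, (i : ℕ) = s → (v + w).coeff i = v.coeff i + w.coeff i := by
  obtain ⟨x, rfl⟩ := exists_shift hs hv
  obtain ⟨y, rfl⟩ := exists_shift hs hw
  rw [← map_add]
  refine ⟨fun i hi => lowZero_shift _ _ i (by omega), fun i hi => ?_⟩
  rw [coeff_shift, coeff_shift, coeff_shift, dif_pos (by omega), dif_pos (by omega), dif_pos (by omega)]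
  exact coeff_add_zero _ _ _ (by simp only; omega)

variable {k : Type u} [Field k]

theorem lowZero_nsmul [CharP k p] {n t : ℕ} (r : ℕ) {u : TruncatedWittVector p n k} (hu : LowZero t u) :
    LowZero (t + r) ((p ^ r) • u) ∧
      ∀ i j : Fin n, (i : ℕ) = t + r → (j : ℕ) = t → ((p ^ r) • u).coeff i = u.coeff j ^ p ^ r := by
  obtain ⟨U, rfl⟩ := WittVector.truncate_surjective p n k u
  have e : (p ^ r) • (WittVector.truncate n U : TruncatedWittVector p n k) =
      WittVector.truncate n (U * (p : WittVector p k) ^ r) := by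
    rw [nsmul_eq_mul, mul_comm, map_mul, map_pow, map_natCast, Nat.cast_pow]
  rw [e]
  refine ⟨fun i hi => ?_, fun i j hi hj => ?_⟩
  · rw [WittVector.coeff_truncate]
    rcases lt_or_ge (i : ℕ) r with h | h
    · exact WittVector.mul_pow_charP_coeff_zero _ h
    · obtain ⟨d, hd⟩ := Nat.exists_eq_add_of_le' h
      have hd' : d < t := by omega
      have h0 := hu ⟨d, by omega⟩ hd'
      rw [WittVector.coeff_truncate] at h0
      rw [hd, WittVector.mul_pow_charP_coeff_succ, h0, zero_pow (pow_ne_zero r hp.out.ne_zero)]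
  · rw [WittVector.coeff_truncate, WittVector.coeff_truncate, hi, hj, WittVector.mul_pow_charP_coeff_succ]

/-- such a subgroup consists of all vectors with vanishing lower components -/
theorem exists_eq_lowZero [IsAlgClosed k] [CharP k p] {n : ℕ} (G : AddSubgroup (TruncatedWittVector p n k))
    (hG : ∀ i : Fin n, (∃ c, ∀ v ∈ G, v.coeff i = c) ∨ {c : k | ∀ v ∈ G, v.coeff i ≠ c}.Finite) :
    ∃ t, t ≤ n ∧ ∀ v, v ∈ G ↔ LowZero t v := by
  classical
  haveI : Infinite k := IsAlgClosed.instInfinite
  have hex : ∃ t, t = n ∨ ∃ i : Fin n, (i : ℕ) = t ∧ ∃ v ∈ G, v.coeff i ≠ 0 := ⟨n, Or.inl rfl⟩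
  let t := Nat.find hex
  have htn : t ≤ n := Nat.find_min' hex (Or.inl rfl)
  have hlow : ∀ v ∈ G, LowZero t v := fun v hv i hi => by
    by_contra h
    exact Nat.find_min hex hi (Or.inr ⟨i, rfl, v, hv, h⟩)
  -- every vector which vanishes below `s ≥ t` is in `G`
  have hsur : ∀ i : Fin n, (i : ℕ) = t → ∀ c : k, ∃ v ∈ G, v.coeff i = c := by
    intro i hi c
    rcases (Nat.find_spec hex) with h | ⟨i', hi', v₁, hv₁, hne⟩
    · exact absurd h (by omega)
    obtain rfl : i' = i := Fin.ext (hi'.trans hi.symm)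
    rcases hG i' with ⟨c₀, hc₀⟩ | hfin
    · refine absurd ?_ hne
      rw [hc₀ v₁ hv₁, ← hc₀ 0 G.zero_mem, TruncatedWittVector.coeff_zero]
    · have hfin' : ((fun x => c - x) '' {c : k | ∀ v ∈ G, v.coeff i' ≠ c}).Finite := hfin.image _
      obtain ⟨a, ha⟩ := (hfin.union hfin').exists_notMem
      simp only [Set.mem_union, not_or] at ha
      obtain ⟨ha, ha'⟩ := ha
      simp only [Set.mem_setOf_eq, not_forall, not_not] at ha
      obtain ⟨v, hv, hva⟩ := ha
      have hb : ∃ w ∈ G, w.coeff i' = c - a := by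
        by_contra h
        exact ha' ⟨c - a, fun w hw hwc => h ⟨w, hw, hwc⟩, sub_sub_cancel _ _⟩
      obtain ⟨w, hw, hwa⟩ := hb
      refine ⟨v + w, G.add_mem hv hw, ?_⟩
      rw [(lowZero_add htn (hlow v hv) (hlow w hw)).2 i' hi, hva, hwa, add_sub_cancel]
  have key : ∀ d s, t ≤ s → n ≤ s + d → ∀ v, LowZero s v → v ∈ G := by
    intro d
    induction d with
    | zero =>
      intro s _ hn v hv
      have : v = 0 := TruncatedWittVector.ext fun i => by
        rw [TruncatedWittVector.coeff_zero]; exact hv i (by omega)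
      exact this ▸ G.zero_mem
    | succ d ih =>
      intro s hts hn v hv
      by_cases hsn : n ≤ s
      · exact ih s hts (by omega) v hv
      obtain ⟨r, rfl⟩ := Nat.exists_eq_add_of_le hts
      let i : Fin n := ⟨t + r, by omega⟩
      let j : Fin n := ⟨t, by omega⟩
      obtain ⟨c, hc⟩ := IsAlgClosed.exists_pow_nat_eq (v.coeff i) (pow_pos hp.out.pos r)
      obtain ⟨u, hu, huc⟩ := hsur j rfl c
      obtain ⟨h1, h2⟩ := lowZero_nsmul r (hlow u hu)
      have hw : (p ^ r) • u ∈ G := G.nsmul_mem hu _
      have hsum : v = (p ^ r) • u + (v - (p ^ r) • u) := by abel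
      rw [hsum]
      refine G.add_mem hw (ih (t + r + 1) (by omega) (by omega) _ ?_)
      -- the difference vanishes below `s`
      obtain ⟨x, hx⟩ := exists_shift (by omega) hv
      obtain ⟨y, hy⟩ := exists_shift (by omega) h1
      have hsub : LowZero (t + r) (v - (p ^ r) • u) := by
        rw [← hx, ← hy, ← map_sub]
        exact fun l hl => lowZero_shift _ _ l (by omega)
      intro l hl
      rcases Nat.lt_succ_iff_lt_or_eq.1 hl with hl | hl
      · exact hsub l hl
      · have h := (lowZero_add (by omega) h1 hsub).2 l hl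
        obtain rfl : l = i := Fin.ext hl
        rw [← hsum, h2 i j rfl rfl, huc, hc] at h
        exact left_eq_add.1 h
  exact ⟨t, htn, fun v => ⟨hlow v, key n t le_rfl (by omega) v⟩⟩

end Groth.Agent.WittSub

end
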