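import Groth.Agent.WittSub.Values
import Groth.Agent.WittSub.Witt
import Groth.Agent.S12170
import Groth.Agent.S12182
import Groth.Agent.AlgSpLib.Reduced
import Mathlib.AlgebraicGeometry.AlgClosed.Basic

/-!
# Connected smooth closed subgroups of the Witt groups
-/

set_option autoImplicit false
universe u

noncomputable section

namespace Groth.Agent.WittSub

open CategoryTheory MonoidalCategory CartesianMonoidalCategory MonObj AlgebraicGeometry CategoryTheory.Limits

variable {p : ℕ} [Fact p.Prime] {k : Type u} [Field k]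

local notation "Sk" => Spec (CommRingCat.of k)

/-- the components of a rational point -/
def val {n : ℕ} (x : 𝟙_ (Over Sk) ⟶ WittGrp.W p n Sk) : TruncatedWittVector p n k :=
  WittGrp.truncMap p n (Scheme.ΓSpecIso (CommRingCat.of k)).hom.hom (WittGrp.pts p (𝟙_ (Over Sk)) (Additive.ofMul x))

theorem val_mul {n : ℕ} (x y : 𝟙_ (Over Sk) ⟶ WittGrp.W p n Sk) : val (x * y) = val x + val y := by
  rw [val, val, val, WittGrp.pts_mul]
  exact map_add _ _ _

theorem val_V {n m : ℕ} (h : n ≤ m) (x : 𝟙_ (Over Sk) ⟶ WittGrp.W p n Sk) :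
    val (x ≫ WittGrp.V p Sk h) = WittGrp.shift p h (val x) := by
  rw [val, val, WittGrp.pts_V, WittGrp.truncMap_shift]

theorem val_injective {n : ℕ} : Function.Injective (val : (𝟙_ (Over Sk) ⟶ WittGrp.W p n Sk) → _) := by
  intro x y h
  refine WittGrp.pts_injective p _ (TruncatedWittVector.ext fun i => ?_)
  have h' := congrArg (fun v => TruncatedWittVector.coeff (p := p) i v) h
  simp only [val, WittGrp.coeff_truncMap] at h'
  exact (Scheme.ΓSpecIso (CommRingCat.of k)).commRingCatIsoToRingEquiv.injective h'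

theorem val_surjective {n : ℕ} (v : TruncatedWittVector p n k) :
    ∃ x : 𝟙_ (Over Sk) ⟶ WittGrp.W p n Sk, val x = v := by
  let w : TruncatedWittVector p n Γ((𝟙_ (Over Sk)).left, ⊤) :=
    WittGrp.truncMap p n (Scheme.ΓSpecIso (CommRingCat.of k)).inv.hom v
  refine ⟨((WittGrp.pts p _).symm w).toMul, ?_⟩
  rw [val, ofMul_toMul, AddEquiv.apply_symm_apply]
  refine TruncatedWittVector.ext fun i => ?_
  simp only [w, WittGrp.coeff_truncMap]
  exact (Scheme.ΓSpecIso (CommRingCat.of k)).commRingCatIsoToRingEquiv.apply_symm_apply _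

/-- two closed immersions with the same image, from reduced schemes -/
theorem exists_iso_of_range_eq {X Y Z : Scheme.{u}} (f : X ⟶ Z) (g : Y ⟶ Z) [IsClosedImmersion f]
    [IsClosedImmersion g] [IsReduced X] [IsReduced Y] (h : Set.range f = Set.range g) :
    ∃ e : X ≅ Y, e.hom ≫ g = f := by
  haveI : Surjective (pullback.fst f g) := ⟨by
    rw [← Set.range_eq_univ, Scheme.Pullback.range_fst, ← h, Set.preimage_range]⟩
  haveI : Surjective (pullback.snd f g) := ⟨by
    rw [← Set.range_eq_univ, Scheme.Pullback.range_snd, h, Set.preimage_range]⟩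
  haveI := isIso_of_isClosedImmersion_of_surjective (pullback.fst f g)
  haveI := isIso_of_isClosedImmersion_of_surjective (pullback.snd f g)
  refine ⟨(asIso (pullback.fst f g)).symm ≪≫ asIso (pullback.snd f g), ?_⟩
  rw [Iso.trans_hom, Iso.symm_hom, asIso_inv, asIso_hom, Category.assoc, ← pullback.condition,
    IsIso.inv_hom_id_assoc]

theorem isClosedImmersion_V {n m : ℕ} (h : n ≤ m) : IsClosedImmersion (WittGrp.V p Sk h).left := by
  obtain ⟨d, rfl⟩ := Nat.exists_eq_add_of_le' h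
  exact (S12170.result p Sk d n).1

variable [IsAlgClosed k]

/-- closed subsets are determined by rational points -/
theorem range_eq_of_points {W X Y : Over Sk} [LocallyOfFiniteType W.hom] (f : X ⟶ W) (g : Y ⟶ W)
    [IsClosedImmersion f.left] [IsClosedImmersion g.left]
    (h1 : ∀ x : 𝟙_ (Over Sk) ⟶ X, ∃ y : 𝟙_ (Over Sk) ⟶ Y, y ≫ g = x ≫ f)
    (h2 : ∀ y : 𝟙_ (Over Sk) ⟶ Y, ∃ x : 𝟙_ (Over Sk) ⟶ X, x ≫ f = y ≫ g) :
    Set.range f.left = Set.range g.left := by
  haveI : JacobsonSpace ↥W.left := LocallyOfFiniteType.jacobsonSpace W.hom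
  have aux : ∀ {X Y : Over Sk} (f : X ⟶ W) (g : Y ⟶ W) [IsClosedImmersion f.left] [IsClosedImmersion g.left],
      (∀ x : 𝟙_ (Over Sk) ⟶ X, ∃ y : 𝟙_ (Over Sk) ⟶ Y, y ≫ g = x ≫ f) →
      Set.range f.left ⊆ Set.range g.left := by
    intro X Y f g _ _ h
    have hf := f.left.isClosedEmbedding
    have hg := g.left.isClosedEmbedding
    rw [← hf.isClosed_range.closure_eq,
      ← JacobsonSpace.closure_inter_closedPoints_eq_closure hf.isClosed_range.isLocallyClosed]
    refine hg.isClosed_range.closure_subset_iff.2 ?_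
    rintro _ ⟨⟨a, rfl⟩, ha⟩
    haveI : LocallyOfFiniteType X.hom := by rw [← Over.w f]; infer_instance
    have ha' : a ∈ closedPoints ↥X.left := by rw [← hf.preimage_closedPoints]; exact ha
    let q := (pointEquivClosedPoint X.hom).symm ⟨a, ha'⟩
    obtain ⟨y, hy⟩ := h (Over.homMk q.1 q.2)
    refine ⟨y.left (IsLocalRing.closedPoint k), ?_⟩
    have hq : q.1 (IsLocalRing.closedPoint k) = a :=
      congrArg Subtype.val ((pointEquivClosedPoint X.hom).apply_symm_apply ⟨a, ha'⟩)
    calc g.left (y.left (IsLocalRing.closedPoint k)) = (y ≫ g).left (IsLocalRing.closedPoint k) := rfl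
      _ = (Over.homMk (U := 𝟙_ (Over Sk)) q.1 q.2 ≫ f).left (IsLocalRing.closedPoint k) := by rw [hy]
      _ = f.left (q.1 (IsLocalRing.closedPoint k)) := rfl
      _ = f.left a := by rw [hq]
  exact Set.Subset.antisymm (aux f g h1) (aux g f h2)

/-- the values of a coordinate on the rational points of a connected closed subscheme -/
theorem coord_dichotomy {n : ℕ} {H : Over Sk} [ConnectedSpace ↥H.left] [LocallyOfFiniteType H.hom]
    (j : H ⟶ WittGrp.W p n Sk) [IsClosedImmersion j.left] (i : Fin n) :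
    (∃ c, ∀ x : 𝟙_ (Over Sk) ⟶ H, (val (x ≫ j)).coeff i = c) ∨
      {c : k | ∀ x : 𝟙_ (Over Sk) ⟶ H, (val (x ≫ j)).coeff i ≠ c}.Finite := by
  haveI : IsAffine (WittGrp.W p n Sk).left := by
    change IsAffine 𝔸(ULift.{u} (Fin n); Sk)
    infer_instance
  haveI : IsAffine H.left := isAffine_of_isAffineHom j.left
  let φ : CommRingCat.of k ⟶ Γ(H.left, ⊤) := (Scheme.ΓSpecIso (CommRingCat.of k)).inv ≫ H.hom.appTop
  letI : Algebra k Γ(H.left, ⊤) := φ.hom.toAlgebra
  haveI : Algebra.FiniteType k Γ(H.left, ⊤) :=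
    (((HasRingHomProperty.iff_of_isAffine (P := @LocallyOfFiniteType)).1 ‹_›).comp
      (RingHom.FiniteType.of_surjective _
        (Scheme.ΓSpecIso (CommRingCat.of k)).symm.commRingCatIsoToRingEquiv.surjective) :
      φ.hom.FiniteType)
  haveI : ConnectedSpace (PrimeSpectrum Γ(H.left, ⊤)) :=
    H.left.isoSpec.hom.homeomorph.surjective.connectedSpace H.left.isoSpec.hom.continuous
  let f : Γ(H.left, ⊤) := j.left.appTop (WittGrp.coord p i)
  have hval : ∀ x : 𝟙_ (Over Sk) ⟶ H,
      (val (x ≫ j)).coeff i = (Scheme.ΓSpecIso (CommRingCat.of k)).hom (x.left.appTop f) := fun x => by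
    rw [val, WittGrp.coeff_truncMap, WittGrp.coeff_pts, Over.comp_left, Scheme.Hom.comp_appTop]
    rfl
  -- points give algebra maps and conversely
  have hA : ∀ x : 𝟙_ (Over Sk) ⟶ H, ∃ a : Γ(H.left, ⊤) →ₐ[k] k,
      ∀ b, a b = (Scheme.ΓSpecIso (CommRingCat.of k)).hom (x.left.appTop b) := fun x => by
    have hw : H.hom.appTop ≫ x.left.appTop = 𝟙 _ := by
      rw [← Scheme.Hom.comp_appTop, Over.w x]
      exact Scheme.Hom.id_appTop
    have hc : φ ≫ x.left.appTop ≫ (Scheme.ΓSpecIso (CommRingCat.of k)).hom = 𝟙 _ := by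
      simp only [φ, Category.assoc]
      erw [reassoc_of% hw]
      exact Iso.inv_hom_id _
    exact ⟨{ (x.left.appTop ≫ (Scheme.ΓSpecIso (CommRingCat.of k)).hom).hom with
      commutes' := fun c => congrArg (fun g : CommRingCat.of k ⟶ CommRingCat.of k => g.hom c) hc }, fun b => rfl⟩
  have hX : ∀ a : Γ(H.left, ⊤) →ₐ[k] k, ∃ x : 𝟙_ (Over Sk) ⟶ H,
      ∀ b, a b = (Scheme.ΓSpecIso (CommRingCat.of k)).hom (x.left.appTop b) := fun a => by
    have hcomp : φ ≫ CommRingCat.ofHom a.toRingHom = 𝟙 _ := CommRingCat.hom_ext (RingHom.ext a.commutes)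
    let q : Spec (CommRingCat.of k) ⟶ H.left := Spec.map (CommRingCat.ofHom a.toRingHom) ≫ H.left.isoSpec.inv
    have hq : q.appTop = CommRingCat.ofHom a.toRingHom ≫ (Scheme.ΓSpecIso (CommRingCat.of k)).inv := by
      have hi : H.left.isoSpec.inv.appTop = (Scheme.ΓSpecIso Γ(H.left, ⊤)).inv := by
        have h := congrArg Scheme.Hom.appTop H.left.isoSpec.inv_hom_id
        rw [Scheme.Hom.comp_appTop, show H.left.isoSpec.hom = H.left.toSpecΓ from rfl, Scheme.toSpecΓ_appTop,
          Scheme.Hom.id_appTop] at h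
        exact (Iso.hom_comp_eq_id _).1 h
      simp only [q, Scheme.Hom.comp_appTop, hi]
      exact (Scheme.ΓSpecIso_inv_naturality _).symm
    have hov : q ≫ H.hom = 𝟙 _ := by
      refine ext_of_isAffine ?_
      rw [Scheme.Hom.comp_appTop, hq, Scheme.Hom.id_appTop]
      rw [← cancel_epi (Scheme.ΓSpecIso (CommRingCat.of k)).inv]
      rw [Category.comp_id, ← Category.assoc, ← Category.assoc]
      erw [hcomp]
      exact Category.id_comp _
    refine ⟨Over.homMk q hov, fun b => ?_⟩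
    show a b = (Scheme.ΓSpecIso (CommRingCat.of k)).hom (q.appTop b)
    rw [hq]
    exact ((Scheme.ΓSpecIso (CommRingCat.of k)).commRingCatIsoToRingEquiv.apply_symm_apply _).symm
  rcases values_dichotomy (k := k) Γ(H.left, ⊤) f with ⟨c, hc⟩ | hfin
  · refine Or.inl ⟨c, fun x => ?_⟩
    obtain ⟨a, ha⟩ := hA x
    rw [hval, ← ha, hc]
  · refine Or.inr (hfin.subset fun c hc a => ?_)
    obtain ⟨x, hx⟩ := hX a
    rw [hx, ← hval]
    exact hc x

theorem main [CharP k p] (n : ℕ) (H : Over Sk) [GrpObj H] [Smooth H.hom] [ConnectedSpace ↥H.left]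
    (j : H ⟶ WittGrp.W p n Sk) [IsMonHom j] [IsClosedImmersion j.left] :
    ∃ (i : ℕ) (hi : i ≤ n) (e : H ≅ WittGrp.W p i Sk), e.hom ≫ WittGrp.V p Sk hi = j := by
  let Φ : Additive (𝟙_ (Over Sk) ⟶ H) →+ TruncatedWittVector p n k :=
    AddMonoidHom.mk' (fun x => val (x.toMul ≫ j)) fun x y => by
      rw [toMul_add, MonObj.mul_comp, val_mul]
  have hG : ∀ i : Fin n, (∃ c, ∀ v ∈ Φ.range, v.coeff i = c) ∨ {c : k | ∀ v ∈ Φ.range, v.coeff i ≠ c}.Finite := by
    intro i
    rcases coord_dichotomy j i with ⟨c, hc⟩ | hfin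
    · exact Or.inl ⟨c, by rintro _ ⟨x, rfl⟩; exact hc x.toMul⟩
    · exact Or.inr (hfin.subset fun c hc x => hc _ ⟨Additive.ofMul x, rfl⟩)
  obtain ⟨t, ht, hiff⟩ := exists_eq_lowZero Φ.range hG
  haveI := isClosedImmersion_V (p := p) (k := k) (Nat.sub_le n t)
  have hWn := (S12182.result p k n).1
  have hWi := (S12182.result p k (n - t)).1
  have hr : Set.range j.left = Set.range (WittGrp.V p Sk (Nat.sub_le n t)).left := by
    refine range_eq_of_points j _ (fun x => ?_) (fun y => ?_)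
    · obtain ⟨v, hv⟩ := exists_shift ht ((hiff _).1 ⟨Additive.ofMul x, rfl⟩)
      obtain ⟨y, rfl⟩ := val_surjective v
      exact ⟨y, val_injective (by rw [val_V, hv]; rfl)⟩
    · have h := lowZero_shift (Nat.sub_le n t) (val y)
      rw [Nat.sub_sub_self ht] at h
      obtain ⟨x, hx⟩ := (hiff _).2 h
      exact ⟨x.toMul, val_injective (hx.trans (val_V _ y).symm)⟩
  haveI : IsReduced H.left := AlgSpLib.isReduced_of_smooth H.hom
  haveI : IsReduced (WittGrp.W p (n - t) Sk).left := AlgSpLib.isReduced_of_smooth (WittGrp.W p (n - t) Sk).hom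
  obtain ⟨e, he⟩ := exists_iso_of_range_eq j.left (WittGrp.V p Sk (Nat.sub_le n t)).left hr
  refine ⟨n - t, Nat.sub_le n t, Over.isoMk e ?_, Over.OverMorphism.ext he⟩
  rw [← Over.w (WittGrp.V p Sk (Nat.sub_le n t)), reassoc_of% he]
  exact Over.w j

end Groth.Agent.WittSub

end
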