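import Mathlib.RingTheory.Spectrum.Prime.Chevalley
import Mathlib.FieldTheory.IsAlgClosed.Basic
import Mathlib.RingTheory.Nullstellensatz
import Mathlib.RingTheory.Jacobson.Ring

/-!
# Values of a function on a connected affine variety over an algebraically closed field
-/

set_option autoImplicit false
set_option linter.style.haveILetI false
universe u

noncomputable section

namespace Groth.Agent.WittSub

open Polynomial PrimeSpectrum Topology

variable {k : Type u} [Field k] [IsAlgClosed k]

/-- the point of the line at a scalar -/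
def linePt (c : k) : PrimeSpectrum k[X] :=
  ⟨Ideal.span {X - C c}, (PrincipalIdealRing.isMaximal_of_irreducible (irreducible_X_sub_C c)).isPrime⟩

theorem mem_linePt {c : k} {q : k[X]} : q ∈ (linePt c).asIdeal ↔ q.eval c = 0 := by
  show q ∈ Ideal.span {X - C c} ↔ _
  rw [Ideal.mem_span_singleton, dvd_iff_isRoot]
  rfl

theorem linePt_injective : Function.Injective (linePt (k := k)) := by
  intro c d h
  have : (X - C c : k[X]) ∈ (linePt d).asIdeal := h ▸ Ideal.subset_span rfl
  rw [mem_linePt] at this
  simp [sub_eq_zero] at this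
  exact this.symm

/-- a constructible subset of the line is finite or cofinite -/
theorem finite_or_compl_finite {s : Set (PrimeSpectrum k[X])} (hs : IsConstructible s) :
    s.Finite ∨ sᶜ.Finite := by
  classical
  induction hs using IsConstructible.empty_union_induction with
  | open_retrocompact U hU _ =>
    obtain ⟨I, hI⟩ := (isClosed_iff_zeroLocus_ideal _).1 hU.isClosed_compl
    by_cases h : I = ⊥
    · refine Or.inl ?_
      have : Uᶜ = Set.univ := by rw [hI, h]; exact zeroLocus_bot
      rw [Set.compl_univ_iff.1 this]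
      exact Set.finite_empty
    · refine Or.inr ?_
      obtain ⟨q, hq, hq0⟩ := Submodule.exists_mem_ne_zero_of_ne_bot h
      refine ((q.roots.toFinset.finite_toSet).image linePt).subset ?_
      rw [hI]
      intro P hP
      have hqP : q ∈ P.asIdeal := hP hq
      have hsp := Splits.eq_prod_roots (IsAlgClosed.splits q)
      rw [hsp] at hqP
      rcases P.isPrime.mem_or_mem hqP with hl | hl
      · refine absurd (Ideal.eq_top_of_isUnit_mem _ hl ?_) P.isPrime.ne_top
        exact isUnit_C.2 (leadingCoeff_ne_zero.2 hq0).isUnit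
      · obtain ⟨a, ha, ha'⟩ := (P.isPrime.multiset_prod_mem_iff_exists_mem _).1 hl
        obtain ⟨c, hc, rfl⟩ := Multiset.mem_map.1 ha
        refine ⟨c, by simpa using hc, PrimeSpectrum.ext ?_⟩
        exact (PrincipalIdealRing.isMaximal_of_irreducible (irreducible_X_sub_C c)).eq_of_le
          P.isPrime.ne_top ((Ideal.span_singleton_le_iff_mem _).2 ha')
  | union s _ t _ hs ht =>
    rcases hs with hs | hs
    · rcases ht with ht | ht
      · exact Or.inl (hs.union ht)
      · exact Or.inr (ht.subset (by simp))
    · exact Or.inr (hs.subset (by simp))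
  | compl s _ hs =>
    rw [compl_compl]
    exact hs.symm

variable (B : Type u) [CommRing B] [Algebra k B] [Algebra.FiniteType k B]

/-- maximal ideals are kernels of points -/
theorem exists_algHom_of_isMaximal (m : Ideal B) [m.IsMaximal] : ∃ a : B →ₐ[k] k, ∀ b ∈ m, a b = 0 := by
  letI := Ideal.Quotient.field m
  haveI : Algebra.FiniteType k (B ⧸ m) := Algebra.FiniteType.trans (S := B) ‹_› inferInstance
  haveI : Module.Finite k (B ⧸ m) := finite_of_finite_type_of_isJacobsonRing k (B ⧸ m)
  haveI : Algebra.IsIntegral k (B ⧸ m) := Algebra.IsIntegral.of_finite k _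
  let e : k ≃ₐ[k] B ⧸ m := AlgEquiv.ofBijective (Algebra.ofId k _)
    IsAlgClosed.algebraMap_bijective_of_isIntegral
  refine ⟨e.symm.toAlgHom.comp (Ideal.Quotient.mkₐ k m), fun b hb => ?_⟩
  show e.symm (Ideal.Quotient.mk m b) = 0
  rw [Ideal.Quotient.eq_zero_iff_mem.2 hb, map_zero]

/-- the values of a function are one or almost all -/
theorem values_dichotomy [ConnectedSpace (PrimeSpectrum B)] (f : B) :
    (∃ c, ∀ a : B →ₐ[k] k, a f = c) ∨ {c : k | ∀ a : B →ₐ[k] k, a f ≠ c}.Finite := by
  classical
  let ψ : k[X] →ₐ[k] B := aeval f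
  haveI : IsJacobsonRing B := isJacobsonRing_of_finiteType (A := k)
  have hψ : ψ.toRingHom.FinitePresentation := by
    haveI : Algebra.FinitePresentation k B := (Algebra.FinitePresentation.of_finiteType (R := k) (A := B)).1 ‹_›
    letI := ψ.toRingHom.toAlgebra
    haveI : IsScalarTower k k[X] B := IsScalarTower.of_algebraMap_eq fun c => (ψ.commutes c).symm
    exact Algebra.FinitePresentation.of_restrict_scalars_finitePresentation k k[X] B
  have hC := isConstructible_range_comap hψ
  have hval : ∀ (a : B →ₐ[k] k) (q : k[X]), a (ψ q) = q.eval (a f) := fun a q => by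
    rw [← AlgHom.comp_apply, show a.comp ψ = aeval (a f) from algHom_ext (by simp [ψ]), coe_aeval_eq_eval]
  have hmem : ∀ a : B →ₐ[k] k, linePt (a f) ∈ Set.range (comap ψ.toRingHom) := fun a => by
    refine ⟨⟨RingHom.ker a.toRingHom, RingHom.ker_isPrime _⟩, PrimeSpectrum.ext (Ideal.ext fun q => ?_)⟩
    rw [mem_linePt, ← hval]
    rfl
  have hex : ∀ c, linePt c ∈ Set.range (comap ψ.toRingHom) → ∃ a : B →ₐ[k] k, a f = c := by
    rintro c ⟨P, hP⟩
    obtain ⟨m, hm, hPm⟩ := Ideal.exists_le_maximal _ P.isPrime.ne_top
    haveI := hm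
    obtain ⟨a, ha⟩ := exists_algHom_of_isMaximal (k := k) B m
    refine ⟨a, ?_⟩
    have : (X - C c : k[X]) ∈ (comap ψ.toRingHom P).asIdeal := by
      rw [hP]; exact Ideal.subset_span rfl
    have h0 := ha _ (hPm this)
    rw [show ψ.toRingHom (X - C c) = ψ (X - C c) from rfl, hval] at h0
    simpa [sub_eq_zero] using h0
  rcases finite_or_compl_finite hC with h | h
  · left
    -- the function takes finitely many values, so it is locally constant
    have hfin : {c : k | ∃ a : B →ₐ[k] k, a f = c}.Finite :=
      (h.preimage linePt_injective.injOn).subset fun c ⟨a, ha⟩ => ha ▸ hmem a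
    let V := hfin.toFinset
    have hnil : IsNilpotent (∏ c ∈ V, (f - algebraMap k B c)) := by
      rw [← mem_nilradical, nilradical, Ideal.zero_eq_bot, Ideal.radical_eq_jacobson,
        Ideal.jacobson, Submodule.mem_sInf]
      rintro m ⟨-, hm⟩
      haveI := hm
      obtain ⟨a, ha⟩ := exists_algHom_of_isMaximal (k := k) B m
      have hk : RingHom.ker a.toRingHom = m := (hm.eq_of_le (RingHom.ker_ne_top _) ha).symm
      rw [← hk, RingHom.mem_ker, map_prod]
      refine Finset.prod_eq_zero (i := a f) (hfin.mem_toFinset.2 ⟨a, rfl⟩) ?_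
      show a (f - algebraMap k B (a f)) = 0
      rw [map_sub, a.commutes]
      exact sub_self _
    have hcov : ∀ P : PrimeSpectrum B, ∃ c ∈ V, f - algebraMap k B c ∈ P.asIdeal := fun P => by
      obtain ⟨n, hn⟩ := hnil
      exact P.isPrime.prod_mem_iff.1 (P.isPrime.mem_of_pow_mem n (hn ▸ P.asIdeal.zero_mem))
    obtain ⟨P₀⟩ : Nonempty (PrimeSpectrum B) := inferInstance
    obtain ⟨c₀, hc₀, hP₀⟩ := hcov P₀
    refine ⟨c₀, fun a => ?_⟩
    have hclosed : IsClopen (zeroLocus ({f - algebraMap k B c₀} : Set B)) := by
      refine ⟨isClosed_zeroLocus _, ?_⟩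
      have e : (zeroLocus ({f - algebraMap k B c₀} : Set B))ᶜ =
          ⋃ c ∈ V.erase c₀, zeroLocus ({f - algebraMap k B c} : Set B) := by
        ext P
        simp only [Set.mem_compl_iff, mem_zeroLocus, Set.singleton_subset_iff, Set.mem_iUnion, Finset.mem_erase,
          SetLike.mem_coe, exists_prop]
        constructor
        · intro hP
          obtain ⟨c, hc, hc'⟩ := hcov P
          exact ⟨c, ⟨fun e => hP (e ▸ hc'), hc⟩, hc'⟩
        · rintro ⟨c, ⟨hne, -⟩, hc⟩ hP
          have h1 : algebraMap k B (c - c₀) ∈ P.asIdeal := by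
            rw [map_sub]
            simpa using P.asIdeal.sub_mem hP hc
          exact P.isPrime.ne_top (Ideal.eq_top_of_isUnit_mem _ h1
            ((sub_ne_zero.2 hne).isUnit.map (algebraMap k B)))
      rw [← isClosed_compl_iff, e]
      exact isClosed_biUnion_finset fun c _ => isClosed_zeroLocus _
    have huniv := (_root_.isClopen_iff.1 hclosed).resolve_left fun e => by
      have : P₀ ∈ zeroLocus ({f - algebraMap k B c₀} : Set B) := by simpa using hP₀
      rw [e] at this
      exact this
    have := Set.eq_univ_iff_forall.1 huniv ⟨RingHom.ker a.toRingHom, RingHom.ker_isPrime _⟩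
    have h0 : a (f - algebraMap k B c₀) = 0 := by simpa [RingHom.mem_ker] using this
    rw [map_sub, a.commutes, sub_eq_zero] at h0
    exact h0
  · right
    exact (h.preimage linePt_injective.injOn).subset fun c hc hc' => by
      obtain ⟨a, ha⟩ := hex c hc'
      exact hc a ha

end Groth.Agent.WittSub

end
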